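import Cfsg.Agent.Lib.Pnm.FR

namespace H63.Pnm
open Pointwise

theorem four_c {G Ω : Type*} [Group G] [Finite G] [MulAction G Ω] [Finite Ω] {K : Subgroup G}
    {F : Set Ω} (hB : Blk K F) (hn : Nat.card Ω = 2 * F.ncard)
    (hT : Tr (MulAction.stabilizer G F) F) {g₁ : G} {u : ℕ}
    (h1 : g₁ • F ≠ F) (h2 : (F ∩ g₁ • F).ncard + u = F.ncard)
    (h3 : ∀ g : G, g • F ≠ F → (F ∩ g • F).ncard + u ≤ F.ncard) (hu : 5 ≤ u)
    (hf : 5 * u ≤ F.ncard) (hK : 5 ≤ Nat.card K)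
    (hG : ∀ g : G, g ≠ 1 → {x : Ω | g • x = x}.ncard ≤ F.ncard + 2)
    (hN : ∀ g : G, g • F = F → 2 * {x ∈ F | g • x ≠ x}.ncard + 4 < F.ncard → g ∈ K) : False := by
  have _ := hn
  have hA : (F \ g₁ • F).ncard = u := by
    have := Set.ncard_inter_add_ncard_sdiff_eq_ncard F (g₁ • F)
    omega
  obtain ⟨n, hnF, hle⟩ := hT.exists_le (Set.toFinite F) (A := F \ g₁ • F) (B := F \ g₁ • F)
    Set.sdiff_subset Set.sdiff_subset
  have hnF' : n • F = F := hnF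
  have hnA : n • (F \ g₁ • F) = F \ (n * g₁) • F := by rw [Set.smul_set_sdiff, hnF', mul_smul]
  have hA' : (F \ (n * g₁) • F).ncard = u := by rw [← hnA, ncard_smul, hA]
  rw [hA, hnA] at hle
  have hAA : 5 * ((F \ g₁ • F) ∩ (F \ (n * g₁) • F)).ncard ≤ u := by
    refine Nat.le_of_mul_le_mul_left ?_ (show 0 < u by omega)
    calc u * (5 * _) = 5 * u * _ := by ring
      _ ≤ F.ncard * _ := Nat.mul_le_mul_right _ hf
      _ ≤ u * u := hle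
  let Γ := fixingSubgroup G (F ∩ g₁ • F ∩ (n * g₁) • F)
  have mΓ : ∀ g, g ∈ Γ ↔ ∀ x ∈ F ∩ g₁ • F ∩ (n * g₁) • F, g • x = x := fun g =>
    mem_fixingSubgroup_iff G
  have hKΓ : K ≤ Γ := fun k hk => (mΓ k).2 fun x hx => hB.fix hk hx.1.1
  have ha : ∀ g ∈ Γ, g ∉ K → g • F ≠ F := by
    intro g hg hgK h
    have h4 : {x ∈ F | g • x ≠ x} ⊆ (F \ g₁ • F) ∪ (F \ (n * g₁) • F) := by
      intro x hx
      by_contra h5
      simp only [Set.mem_union, Set.mem_sdiff, hx.1, true_and, not_or, not_not] at h5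
      exact hx.2 ((mΓ g).1 hg x ⟨⟨hx.1, h5.1⟩, h5.2⟩)
    have h5 := (Set.ncard_le_ncard h4).trans (Set.ncard_union_le _ _)
    exact hgK (hN g h (by omega))
  have hTI : ∀ g ∈ Γ, g ∉ K → ∀ k ∈ K, g * k * g⁻¹ ∈ K → k = 1 := by
    intro g hg hgK k hk hk'
    by_contra h
    have h4 : F ∪ g • F ⊆ {x : Ω | (g * k * g⁻¹) • x = x} := by
      rintro x (hx | hx)
      · exact hB.fix hk' hx
      · exact hB.fix_conj hk hx
    have h5 := (Set.ncard_le_ncard h4).trans (hG _ (by simpa using h))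
    have h6 := Set.ncard_union_add_ncard_inter F (g • F)
    have h7 := h3 g (ha g hg hgK)
    rw [ncard_smul] at h6
    omega
  have hw : ∀ g : G, F ∩ g₁ • F ∩ (n * g₁) • F ⊆ g • F →
      ∃ w ∈ Γ, (∀ x ∈ F ∩ g • F, w • x = x) ∧ w • F = g • F := by
    intro g hg
    obtain ⟨w, h4, h5⟩ := hB.through (X := F ∩ g • F) 1 g (by simp) Set.inter_subset_right
    exact ⟨w, (mΓ w).2 fun x hx => h4 x ⟨hx.1.1, hg hx⟩, h4, by simpa using h5⟩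
  have hK0 : K ≠ ⊥ := by
    rintro rfl
    simp at hK
  have hne : ¬ Γ ≤ K := fun h => by
    obtain ⟨w, h4, -, h5⟩ := hw g₁ fun x hx => hx.1.2
    exact h1 (by rw [← h5, hB.smul_eq (h h4)])
  obtain ⟨Φ, Ψ, p1, p2, p3, p4, p5, p6, p7, p8, p9⟩ := frob_core hKΓ hK0 hne hTI
  obtain ⟨⟨ψ, hψ⟩, hψ1⟩ := Subgroup.ne_bot_iff_exists_ne_one.1 p6
  have hψ1' : ψ ≠ 1 := fun h => hψ1 (Subtype.ext h)
  obtain ⟨⟨k₀, hk₀⟩, hk1⟩ := Subgroup.ne_bot_iff_exists_ne_one.1 hK0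
  have hk1' : k₀ ≠ 1 := fun h => hk1 (Subtype.ext h)
  have hBu : u ≤ (F \ ψ⁻¹ • F).ncard := by
    have h4 := h3 ψ⁻¹ (ha _ (inv_mem (p2 (p1 hψ))) fun h =>
      hψ1' (p5 ψ (p1 hψ) (inv_mem_iff.1 h)))
    have := Set.ncard_inter_add_ncard_sdiff_eq_ncard F (ψ⁻¹ • F)
    omega
  have hBm : ∀ a ∈ F \ ψ⁻¹ • F, ψ • a ∉ F := fun a h h' => h.2 (by rwa [mem_smul, inv_inv])
  have inj : ∀ a ∈ F \ ψ⁻¹ • F, ∀ a' ∈ F, ∀ k ∈ K, k • ψ • a = ψ • a' → k = 1 ∧ a = a' := by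
    intro a h4 a' h5 k hk h
    have hθ : ψ⁻¹ * (k * ψ * k⁻¹) ∈ Ψ := mul_mem (inv_mem hψ) (p8 k hk ψ hψ)
    have hθa : (ψ⁻¹ * (k * ψ * k⁻¹)) • a = a' := by
      rw [mul_smul, mul_smul, mul_smul, hB.fix (inv_mem hk) h4.1, h, inv_smul_smul]
    have h6 : Ψ ⊓ MulAction.stabilizer G a = ⊥ := by
      refine (p9 _ inf_le_left fun j hj y hy => ⟨p8 j hj y hy.1, ?_⟩).resolve_right fun h7 => ?_
      · have hy2 : y • a = a := hy.2
        change (j * y * j⁻¹) • a = a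
        rw [mul_smul, mul_smul, hB.fix (inv_mem hj) h4.1, hy2, hB.fix hj h4.1]
      · have h8 : ψ • a = a := (h7.ge hψ).2
        exact hBm a h4 (h8.symm ▸ h4.1)
    generalize hθd : ψ⁻¹ * (k * ψ * k⁻¹) = θ at hθ hθa
    have h7 : θ⁻¹ * (k₀ * θ * k₀⁻¹) ∈ Ψ ⊓ MulAction.stabilizer G a := by
      refine ⟨Ψ.mul_mem (Ψ.inv_mem hθ) (p8 _ hk₀ _ hθ), ?_⟩
      change (θ⁻¹ * (k₀ * θ * k₀⁻¹)) • a = a
      rw [mul_smul, mul_smul, mul_smul, hB.fix (inv_mem hk₀) h4.1, hθa, hB.fix hk₀ h5, ← hθa,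
        inv_smul_smul]
    rw [h6, Subgroup.mem_bot, inv_mul_eq_one, eq_mul_inv_iff_mul_eq] at h7
    obtain rfl : θ = 1 := (p4 θ (p1 hθ) k₀ hk₀ h7.symm).resolve_right hk1'
    rw [inv_mul_eq_one, eq_mul_inv_iff_mul_eq] at hθd
    exact ⟨(p4 ψ (p1 hψ) k hk hθd.symm).resolve_left hψ1', by simpa using hθa⟩
  have cnt : ∀ g : G, F ∩ g₁ • F ∩ (n * g₁) • F ⊆ g • F → (F \ g • F).ncard = u →
      5 * ((F \ ψ⁻¹ • F) ∩ g • F).ncard ≤ u + 2 := by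
    intro g hg hgu
    obtain ⟨w, h4, h5, h6⟩ := hw g hg
    obtain ⟨k, hk, hφ⟩ := p3 w h4
    have h7 : ∀ x ∈ F ∩ g • F, (w * k) • x = x := fun x hx => by
      rw [mul_smul, hB.fix hk hx.1, h5 x hx]
    have h8 : (w * k) • F = g • F := by rw [mul_smul, hB.smul_eq hk, h6]
    generalize w * k = φ at hφ h7 h8
    have h9 : φ ≠ 1 := by
      rintro rfl
      rw [← h8, one_smul, Set.sdiff_self, Set.ncard_empty] at hgu
      omega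
    have h10 : ({x : Ω | φ • x = x} \ F).ncard ≤ u + 2 := by
      have e1 := Set.ncard_inter_add_ncard_sdiff_eq_ncard {x : Ω | φ • x = x} F
      have e2 := Set.ncard_inter_add_ncard_sdiff_eq_ncard F (g • F)
      have e3 := Set.ncard_le_ncard (show F ∩ g • F ⊆ {x : Ω | φ • x = x} ∩ F from
        fun x hx => ⟨h7 x hx, hx.1⟩)
      have e4 := hG φ h9
      omega
    have h11 : Nat.card (K × ((F \ ψ⁻¹ • F) ∩ g • F : Set Ω)) ≤
        Nat.card ({x : Ω | φ • x = x} \ F : Set Ω) := by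
      refine Nat.card_le_card_of_injective (fun x => ⟨(x.1 : G) • ψ • (x.2 : Ω), ?_,
        fun h => hBm _ x.2.2.1 ((hB.smul_mem_iff x.1.2).1 h)⟩) ?_
      · obtain ⟨⟨j, hj⟩, a, ha⟩ := x
        change φ • j • ψ • a = j • ψ • a
        have e1 : j • ψ • a = (j * ψ * j⁻¹) • a := by
          rw [mul_smul, mul_smul, hB.fix (inv_mem hj) ha.1.1]
        rw [e1, ← mul_smul, p7 _ (p8 j hj ψ hψ) φ hφ, mul_smul, h7 a ⟨ha.1.1, ha.2⟩]
      · rintro ⟨j, a⟩ ⟨j', a'⟩ h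
        have h' : (j : G) • ψ • (a : Ω) = (j' : G) • ψ • (a' : Ω) := congrArg Subtype.val h
        obtain ⟨e1, e2⟩ := inj a a.2.1 a' a'.2.1.1 _ (mul_mem (inv_mem j'.2) j.2)
          (by rw [mul_smul, h', inv_smul_smul])
        exact Prod.ext (Subtype.ext (inv_mul_eq_one.1 e1).symm) (Subtype.ext e2)
    rw [Nat.card_prod, Nat.card_coe_set_eq, Nat.card_coe_set_eq] at h11
    exact (Nat.mul_le_mul_right _ hK).trans (h11.trans h10)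
  have c1 := cnt g₁ (fun x hx => hx.1.2) hA
  have c2 := cnt (n * g₁) (fun x hx => hx.2) hA'
  have c3 : F \ ψ⁻¹ • F ⊆ ((F \ ψ⁻¹ • F) ∩ g₁ • F ∪ (F \ ψ⁻¹ • F) ∩ (n * g₁) • F) ∪
      (F \ g₁ • F) ∩ (F \ (n * g₁) • F) := by
    intro x hx
    by_cases e1 : x ∈ g₁ • F
    · exact Or.inl (Or.inl ⟨hx, e1⟩)
    by_cases e2 : x ∈ (n * g₁) • F
    · exact Or.inl (Or.inr ⟨hx, e2⟩)
    exact Or.inr ⟨⟨hx.1, e1⟩, hx.1, e2⟩
  have c4 := (Set.ncard_le_ncard c3).trans (Set.ncard_union_le _ _)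
  have c5 := Set.ncard_union_le ((F \ ψ⁻¹ • F) ∩ g₁ • F) ((F \ ψ⁻¹ • F) ∩ (n * g₁) • F)
  omega

end H63.Pnm
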