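import Cfsg.Agent.Lib.Pnm.Defs
import Cfsg.Agent.S0035
import Cfsg.Agent.S0042

namespace H63.Pnm
open Pointwise

theorem frob_core {G : Type*} [Group G] [Finite G] {K Γ : Subgroup G} (hKΓ : K ≤ Γ) (hK : K ≠ ⊥)
    (hne : ¬ Γ ≤ K) (hTI : ∀ g ∈ Γ, g ∉ K → ∀ k ∈ K, g * k * g⁻¹ ∈ K → k = 1) :
    ∃ Φ Ψ : Subgroup G, Ψ ≤ Φ ∧ Φ ≤ Γ ∧ (∀ g ∈ Γ, ∃ k ∈ K, g * k ∈ Φ) ∧
      (∀ x ∈ Φ, ∀ k ∈ K, k * x = x * k → x = 1 ∨ k = 1) ∧ (∀ x ∈ Φ, x ∈ K → x = 1) ∧ Ψ ≠ ⊥ ∧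
      (∀ y ∈ Ψ, ∀ x ∈ Φ, x * y = y * x) ∧ (∀ k ∈ K, ∀ y ∈ Ψ, k * y * k⁻¹ ∈ Ψ) ∧
      ∀ Ψ' : Subgroup G, Ψ' ≤ Ψ → (∀ k ∈ K, ∀ y ∈ Ψ', k * y * k⁻¹ ∈ Ψ') → Ψ' = ⊥ ∨ Ψ' = Ψ := by
  have hT : K.subgroupOf Γ ≠ ⊤ := fun h => hne (Subgroup.subgroupOf_eq_top.1 h)
  have hF : Cfsg.IsFrobeniusComplement (K.subgroupOf Γ) := by
    refine ⟨fun h => hK ?_, hT, fun g hg => ?_⟩
    · rw [Subgroup.subgroupOf_eq_bot] at h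
      exact h.eq_bot_of_le hKΓ
    · rw [eq_bot_iff]
      rintro x ⟨hx, k, hk, rfl⟩
      have h1 : k = 1 := Subtype.ext (hTI g g.2 hg k hk hx)
      rw [h1]
      simp
  obtain ⟨N, hN, hn, hc⟩ := Cfsg.Agent.S0035.result _ hF
  obtain ⟨N', hN', -, hnil⟩ := Cfsg.Agent.S0042.result _ hF
  obtain rfl : N = N' := SetLike.coe_injective (hN.trans hN'.symm)
  let Φ := N.map Γ.subtype
  have hΦ : Φ ≤ Γ := Subgroup.map_subtype_le N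
  have hd : ∀ x ∈ Φ, x ∈ K → x = 1 := by
    rintro _ ⟨x, hx, rfl⟩ hk
    have : x = 1 := Subgroup.disjoint_def.1 hc.disjoint hx hk
    rw [this]; rfl
  have hcj : ∀ k ∈ K, ∀ y ∈ Φ, k * y * k⁻¹ ∈ Φ := by
    rintro k hk _ ⟨y, hy, rfl⟩
    exact ⟨_, hn.conj_mem y hy ⟨k, hKΓ hk⟩, rfl⟩
  have hN0 : N ≠ ⊥ := by
    rintro rfl
    exact hT (Subgroup.isComplement'_bot_left.1 hc)
  have : Nontrivial N := (Subgroup.nontrivial_iff_ne_bot N).2 hN0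
  let Z := Φ ⊓ Subgroup.centralizer (Φ : Set G)
  have hZ : Z ≠ ⊥ := by
    obtain ⟨z, hz⟩ := Subgroup.ne_bot_iff_exists_ne_one.1 (Group.IsNilpotent.center_ne_bot N)
    refine Subgroup.ne_bot_iff_exists_ne_one.2 ⟨⟨z.1.1.1, ⟨_, z.1.2, rfl⟩, ?_⟩, fun h => hz ?_⟩
    · rintro _ ⟨y, hy, rfl⟩
      exact congrArg (fun a : N => (a.1 : G)) (Subgroup.mem_center_iff.1 z.2 ⟨y, hy⟩)
    · have h' : (z.1.1.1 : G) = 1 := congrArg Subtype.val h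
      exact Subtype.ext (Subtype.ext (Subtype.ext h'))
  have hZc : ∀ k ∈ K, ∀ y ∈ Z, k * y * k⁻¹ ∈ Z := by
    intro k hk y hy
    refine ⟨hcj k hk y hy.1, fun x hx => ?_⟩
    have h1 := hy.2 _ (hcj k⁻¹ (inv_mem hk) x hx)
    calc x * (k * y * k⁻¹) = k * (k⁻¹ * x * k⁻¹⁻¹ * y) * k⁻¹ := by group
      _ = k * y * k⁻¹ * x := by rw [h1]; group
  obtain ⟨Ψ, ⟨h1, h2, h3⟩, h4⟩ := (wellFounded_lt (α := Subgroup G)).has_min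
    {Ψ | Ψ ≤ Z ∧ Ψ ≠ ⊥ ∧ ∀ k ∈ K, ∀ y ∈ Ψ, k * y * k⁻¹ ∈ Ψ} ⟨Z, le_rfl, hZ, hZc⟩
  refine ⟨Φ, Ψ, h1.trans inf_le_left, hΦ, fun g hg => ?_, fun x hx k hk h => ?_, hd, h2,
    fun y hy x hx => (h1 hy).2 x hx, h3, fun Ψ' h5 h6 => ?_⟩
  · obtain ⟨⟨n, k⟩, h⟩ := (hc.existsUnique ⟨g, hg⟩).exists
    refine ⟨(k.1 : G)⁻¹, inv_mem k.2, n.1, n.2, ?_⟩
    rw [← show (n.1 : G) * k.1 = g from congrArg Subtype.val h, mul_inv_cancel_right]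
    rfl
  · by_cases h5 : x ∈ K
    · exact Or.inl (hd x hx h5)
    · exact Or.inr (hTI x (hΦ hx) h5 k hk (by rwa [← h, mul_inv_cancel_right]))
  · by_contra h7
    push Not at h7
    exact h4 Ψ' ⟨h5.trans h1, h7.1, h6⟩ (lt_of_le_of_ne h5 h7.2)

end H63.Pnm
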