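import Cfsg.Agent.Lib.Pnm.Red
import Cfsg.Agent.Lib.Pnm.BOA
import Cfsg.Agent.Lib.Pnm.BOB
import Cfsg.Agent.Lib.Pnm.AG
import Cfsg.Agent.Lib.Pnm.C12A
import Cfsg.Agent.Lib.Pnm.C12B
import Cfsg.Agent.Lib.Pnm.FA
import Cfsg.Agent.Lib.Pnm.FB
import Cfsg.Agent.Lib.Pnm.FC

/-! Pronormal subgroups (S3399): the main induction. -/

namespace H63.Pnm
open Pointwise

theorem boch {G Ω : Type*} [Group G] [Finite G] [MulAction G Ω] {H : Subgroup G} {O : Set Ω}
    (hO : O.Finite) (hinv : ∀ h ∈ H, ∀ x ∈ O, h • x ∈ O) (h4 : Tk H O 4) (hn : 15 ≤ O.ncard)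
    (hH : ¬ Hom H O) {g : G} (hg : g ∈ H) (h1 : ∃ x ∈ O, g • x ≠ x) :
    O.ncard ≤ 2 * {x ∈ O | g • x ≠ x}.ncard + 4 := by
  classical
  have ex : ∃ m, ∃ g ∈ H, (∃ x ∈ O, g • x ≠ x) ∧ {x ∈ O | g • x ≠ x}.ncard = m :=
    ⟨_, g, hg, h1, rfl⟩
  obtain ⟨g₀, hg₀, h2, h3⟩ := Nat.find_spec ex
  have hmin : ∀ g ∈ H, (∃ x ∈ O, g • x ≠ x) → Nat.find ex ≤ {x ∈ O | g • x ≠ x}.ncard :=
    fun g hg h => Nat.find_min' ex ⟨g, hg, h, rfl⟩
  have hm : 4 ≤ Nat.find ex := by
    by_contra hc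
    exact hH (hom_of_small hO hinv (h4.mono (by omega) (by omega)) hg₀ h2 (by omega))
  have := boch_count hO hinv h4 hm hmin hg₀ h3
  have := hmin g hg h1
  omega

theorem four {G Ω : Type*} [Group G] [Finite G] [MulAction G Ω] [Finite Ω] [FaithfulSMul G Ω]
    {K : Subgroup G} {F : Set Ω} (hB : Blk K F) (h4 : Tk (⊤ : Subgroup G) (Set.univ : Set Ω) 4)
    (hn : Nat.card Ω = 2 * F.ncard) (hf : 2 ≤ F.ncard) : False := by
  have hB' : Blk (fixingSubgroup G F) F := by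
    have hle : K ≤ fixingSubgroup G F := fun k hk =>
      (mem_fixingSubgroup_iff G).2 fun x hx => hB.fix hk hx
    refine ⟨fun x => ⟨fun hx k hk => (mem_fixingSubgroup_iff G).1 hk x hx,
      fun h => (hB.1 x).2 fun k hk => h k (hle hk)⟩, fun g H h1 h2 =>
        hB.2 g H (hle.trans h1) fun k hk => h2 k (hle hk)⟩
  obtain ⟨g₁, u, h1, h2, h3, hu, hf', hK, n1, n2⟩ := four_a hB' h4 hn hf
  obtain ⟨f1, f2, f3⟩ := four_b hB' hn h1 h2 h3 hu hf' hK
  have hinv : ∀ h ∈ MulAction.stabilizer G F, ∀ x ∈ F, h • x ∈ F := fun h hh x hx => by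
    rw [← MulAction.mem_stabilizer_iff.1 hh, smul_mem]; exact hx
  have hG : ∀ g : G, g ≠ 1 → {x : Ω | g • x = x}.ncard ≤ F.ncard + 2 := by
    intro g hg
    have hm : ∃ x ∈ (Set.univ : Set Ω), g • x ≠ x := by
      by_contra hc
      push Not at hc
      exact hg (eq_of_smul_eq_smul (α := Ω) fun x => by rw [hc x trivial, one_smul])
    have := boch (Set.toFinite _) (fun _ _ _ _ => Set.mem_univ _) h4
      (by rw [Set.ncard_univ]; omega) n1
      (Subgroup.mem_top g) hm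
    have e := Set.ncard_add_ncard_compl {x : Ω | g • x = x}
    have e' : {x ∈ (Set.univ : Set Ω) | g • x ≠ x} = {x : Ω | g • x = x}ᶜ := by ext; simp
    rw [e', Set.ncard_univ] at this
    omega
  have hN : ∀ g : G, g • F = F → 2 * {x ∈ F | g • x ≠ x}.ncard + 4 < F.ncard →
      g ∈ fixingSubgroup G F := by
    intro g hg hlt
    rw [mem_fixingSubgroup_iff]
    by_contra hc
    push Not at hc
    have := boch (Set.toFinite _) hinv (hB'.tk h4) (by omega) n2 hg hc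
    omega
  have hT : Tr (MulAction.stabilizer G F) F := by
    refine ⟨hinv, fun x hx y hy => ?_⟩
    simpa using (hB'.tk h4).mono (by omega) (show 1 ≤ 4 by omega) [x] [y] rfl rfl (by simp)
      (by simp) (by simpa using hx) (by simpa using hy)
  exact four_c hB' hn hT h1 h2 h3 hu (f3 hG hN) f2 hG hN

/-- `F` cannot be exactly half of the points -/
theorem zero {G Ω : Type} [Group G] [Finite G] [MulAction G Ω] [Finite Ω] [FaithfulSMul G Ω]
    {K : Subgroup G} {F : Set Ω} (ih : ∀ m < Nat.card Ω, SF m) (hP : Pr K)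
    (hF : ∀ x, x ∈ F ↔ ∀ k ∈ K, k • x = x) (hT : Tr (⊤ : Subgroup G) (Set.univ : Set Ω))
    (hn : Nat.card Ω = 2 * F.ncard) (hne : ¬ Set.univ ⊆ F) : False := by
  have hB := hP.blk hF
  have hFn : F.Nonempty := by
    obtain ⟨x, -, -⟩ := Set.not_subset.1 hne
    haveI : Nonempty Ω := ⟨x⟩
    have := Nat.card_pos (α := Ω)
    exact Set.nonempty_of_ncard_ne_zero (by omega)
  have hc := hB.ne_compl hFn
  have hcompl : Fᶜ.ncard = F.ncard := by have := Set.ncard_add_ncard_compl F; omega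
  obtain ⟨α₀, hα₀⟩ := id hFn
  have hU : (Set.univ : Set Ω).ncard = 2 * (Set.univ ∩ F).ncard := by
    rw [Set.ncard_univ, Set.univ_inter, hn]
  obtain ⟨n4, h3⟩ : 4 ≤ (Set.univ : Set Ω).ncard ∧ Tk (⊤ : Subgroup G) (Set.univ : Set Ω) 3 := by
    rcases red (by rwa [Set.ncard_univ]) hP hF le_top hT (Set.toFinite _) hne (Set.mem_univ α₀)
      hα₀ with h | h
    · omega
    · exact (shape hB le_top hT (Set.toFinite _) hne (Set.mem_univ α₀) hα₀ h).2.1 hU
  have hf : 4 ≤ F.ncard := by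
    by_contra hlt
    obtain ⟨g, -, hg⟩ := h3.move (by omega) (Set.subset_univ F) (Set.subset_univ Fᶜ)
      (Set.toFinite _) hcompl.ge (by omega)
    exact hc g (Set.eq_of_subset_of_ncard_le hg (by rw [ncard_smul, hcompl]) (Set.toFinite _))
  obtain ⟨α, β, γ, hα, hβ, hγ, hαβ, hαγ, hβγ⟩ := (Set.two_lt_ncard_iff (Set.toFinite F)).1 (by omega)
  have hd : [α, β, γ].Nodup := by simp [hαβ, hαγ, hβγ]
  set H₁ := (⊤ : Subgroup G) ⊓ MulAction.stabilizer G α with hH₁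
  set H₂ := H₁ ⊓ MulAction.stabilizer G β with hH₂
  set O₂ := ((Set.univ : Set Ω) \ {α}) \ {β} with hO₂
  have mH₂ : ∀ g, g ∈ H₂ ↔ g • α = α ∧ g • β = β := fun g => by simp [hH₂, hH₁]
  have mO₂ : ∀ x, x ∈ O₂ ↔ x ≠ α ∧ x ≠ β := fun x => by simp [hO₂]
  have hT₁ : Tr H₁ (Set.univ \ {α}) := by
    constructor
    · rintro h hh x hx
      have h1 : h • α = α := hh.2
      exact ⟨trivial, fun e => hx.2 (smul_left_cancel h (e.trans h1.symm))⟩
    · intro x hx y hy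
      obtain ⟨g, -, e1, e2⟩ := (h3.mono (by omega) (show 2 ≤ 3 by omega)).two trivial trivial
        trivial trivial (Ne.symm hx.2) (Ne.symm hy.2)
      exact ⟨g, ⟨trivial, e1⟩, e2⟩
  have hT₂ : Tr H₂ O₂ := by
    constructor
    · intro h hh x hx
      rw [mH₂] at hh
      rw [mO₂] at hx ⊢
      exact ⟨fun e => hx.1 (smul_left_cancel h (e.trans hh.1.symm)),
        fun e => hx.2 (smul_left_cancel h (e.trans hh.2.symm))⟩
    · intro x hx y hy
      rw [mO₂] at hx hy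
      obtain ⟨g, -, e1, e2, e3⟩ := h3.three (a := α) (b := β) (c := x) (a' := α) (b' := β) (c' := y)
        trivial trivial trivial trivial trivial trivial (by simp [hαβ, hx.1.symm, hx.2.symm])
        (by simp [hαβ, hy.1.symm, hy.2.symm])
      exact ⟨g, (mH₂ g).2 ⟨e1, e2⟩, e3⟩
  have hK₂ : K ≤ H₂ := fun k hk => (mH₂ k).2 ⟨hB.fix hk hα, hB.fix hk hβ⟩
  have hγ₂ : γ ∈ O₂ := (mO₂ γ).2 ⟨hαγ.symm, hβγ.symm⟩
  have hne₂ : ¬ O₂ ⊆ F := by
    obtain ⟨x, -, hx⟩ := Set.not_subset.1 hne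
    exact fun h => hx (h ((mO₂ x).2 ⟨fun e => hx (e ▸ hα), fun e => hx (e ▸ hβ)⟩))
  have c1 : O₂.ncard + 2 = Nat.card Ω := by
    have : O₂ = ({α, β} : Set Ω)ᶜ := by ext x; simp [mO₂]
    have e := Set.ncard_add_ncard_compl ({α, β} : Set Ω)
    rw [Set.ncard_pair hαβ] at e
    rw [this]; omega
  have c2 : (O₂ ∩ F).ncard + 2 = F.ncard := by
    have : O₂ ∩ F = F \ {α, β} := by ext x; simp [mO₂, and_comm]
    rw [this, ← Set.ncard_pair hαβ, Set.ncard_sdiff_add_ncard_of_subset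
      (by rintro x (rfl | rfl) <;> assumption) (Set.toFinite _)]
  rcases red (fun m hm => ih m (by omega)) hP hF hK₂ hT₂ (Set.toFinite _) hne₂ hγ₂ hγ with h | h
  · have e2 : {y ∈ O₂ | ∀ h ∈ H₂, γ ∈ h • F ↔ y ∈ h • F}.ncard = 2 := by omega
    have key : ∀ w, w ∈ {y ∈ O₂ | ∀ h ∈ H₂, γ ∈ h • F ↔ y ∈ h • F} \ {γ} ↔
        w ∉ [α, β, γ] ∧ ∀ g : G, α ∈ g • F → β ∈ g • F → γ ∈ g • F → w ∈ g • F := by
      intro w
      constructor
      · rintro ⟨⟨h1, h2⟩, h3⟩
        rw [mO₂] at h1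
        refine ⟨by simpa using ⟨h1.1, h1.2, h3⟩, fun g a b c => ?_⟩
        obtain ⟨v, hv, e⟩ := hB.through (X := {α, β}) 1 g
          (by rintro x (rfl | rfl) <;> simpa) (by rintro x (rfl | rfl) <;> assumption)
        rw [one_smul] at e
        rw [← e] at c ⊢
        exact (h2 v ((mH₂ v).2 ⟨hv α (by simp), hv β (by simp)⟩)).1 c
      · rintro ⟨h1, h2⟩
        simp only [List.mem_cons, List.not_mem_nil, or_false, not_or] at h1
        have hw : w ∈ O₂ := (mO₂ w).2 ⟨h1.1, h1.2.1⟩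
        have h3 : ∀ h ∈ H₂, γ ∈ h • F → w ∈ h • F := fun h hh c => by
          rw [mH₂] at hh
          exact h2 h (by rw [← hh.1, smul_mem]; exact hα) (by rw [← hh.2, smul_mem]; exact hβ) c
        exact ⟨⟨hw, fun h hh => ⟨h3 h hh, hT₂.conv hγ₂ hw h3 h hh⟩⟩, h1.2.2⟩
    have e1 : ({y ∈ O₂ | ∀ h ∈ H₂, γ ∈ h • F ↔ y ∈ h • F} \ {γ}).ncard = 1 := by
      rw [Set.ncard_sdiff_singleton_of_mem (show γ ∈ {y ∈ O₂ | ∀ h ∈ H₂, γ ∈ h • F ↔ y ∈ h • F} from
        ⟨hγ₂, fun _ _ => Iff.rfl⟩), e2]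
    obtain ⟨δ, hδ⟩ := Set.ncard_eq_one.1 e1
    refine ag_case hT hn hFn hc fun x y z hxyz => ?_
    obtain ⟨s, -, rfl, rfl, rfl⟩ := h3.three (a := α) (b := β) (c := γ) (a' := x) (b' := y) (c' := z)
      trivial trivial trivial trivial trivial trivial hd hxyz
    have tr : ∀ w, (s • w ∉ [s • α, s • β, s • γ] ∧ ∀ g : G, s • α ∈ g • F → s • β ∈ g • F →
        s • γ ∈ g • F → s • w ∈ g • F) ↔ w = δ := by
      intro w
      rw [← Set.mem_singleton_iff, ← hδ, key]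
      refine and_congr (by simp) ⟨fun h g a b c => ?_, fun h g a b c => ?_⟩
      · have := h (s * g)
        simp only [mul_smul, smul_mem] at this
        exact this a b c
      · have := h (s⁻¹ * g)
        simp only [mul_smul, mem_smul (g := s⁻¹), inv_inv] at this
        exact this a b c
    refine ⟨s • δ, (tr δ).2 rfl, fun w hw => ?_⟩
    have := (tr (s⁻¹ • w)).1 (by simpa using hw)
    rw [← this, smul_inv_smul]
  · rcases (shape hB hK₂ hT₂ (Set.toFinite _) hne₂ hγ₂ hγ h).2.2.2 (by omega) with h4 | h4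
    · exact four hB (Tk.succ hT trivial (Tk.succ hT₁ ⟨trivial, hαβ.symm⟩
        (Tk.succ hT₂ hγ₂ h4.tk1))) hn (by omega)
    · obtain ⟨D, E, d1, d2, d3, d4, d5, d6, d7, d8⟩ := h4
      have eH : H₂ ⊓ MulAction.stabilizer G γ = fixingSubgroup G {α, β, γ} := by
        ext g
        simp [mem_fixingSubgroup_iff, mH₂, and_assoc]
      have eO : O₂ \ {γ} = ({α, β, γ} : Set Ω)ᶜ := by ext x; simp [mO₂, and_assoc]
      rw [eH] at d3 d4 d5
      rw [eO] at d1
      obtain ⟨Q, hQ⟩ := c12_a hB h3 hα hβ hγ hd d1 d2 d3 d4 d5 rfl d6 d7 d8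
      exact c12_b hB hn (by omega) d6 hQ

theorem sf (n : ℕ) : SF n := by
  induction n using Nat.strong_induction_on with
  | _ n ih =>
    intro G Ω _ _ _ K H O F hP hF hK hT hO hn hne
    subst hn
    have hB := hP.blk hF
    obtain ⟨x, hx, hxF⟩ := Set.not_subset.1 hne
    have h2 : 2 ≤ O.ncard := by
      obtain ⟨k, hk, hkx⟩ : ∃ k ∈ K, k • x ≠ x := by
        by_contra hc
        push Not at hc
        exact hxF ((hF x).2 hc)
      rw [← Set.ncard_pair hkx]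
      exact Set.ncard_le_ncard (by
        rintro y (rfl | rfl)
        · exact hT.1 k (hK hk) x hx
        · exact hx) hO
    have h0 : O.ncard ≠ 2 * (O ∩ F).ncard := by
      intro e
      let O' : SubMulAction H Ω := ⟨O, fun h _ hy => hT.1 h h.2 _ hy⟩
      haveI : Finite O' := hO
      let f := (MulAction.toPermHom H O').rangeRestrict
      have hf : ∀ (h : H) (y : O'), ((f h • y : O') : Ω) = (h : G) • (y : Ω) := fun _ _ => rfl
      have hc : Nat.card O' = O.ncard := (Nat.card_coe_set_eq O)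
      refine zero (G := (MulAction.toPermHom H O').range) (Ω := O')
        (K := (K.subgroupOf H).map f) (F := {y | (y : Ω) ∈ F}) (by rwa [hc])
        ((hP.subgroupOf hK).map f (MonoidHom.rangeRestrict_surjective _)) (fun y => ?_) ?_ ?_ ?_
      · constructor
        · rintro hy _ ⟨k, hk, rfl⟩
          exact Subtype.ext (by rw [hf]; exact hB.fix hk hy)
        · intro h
          refine (hF _).2 fun k hk => ?_
          have := congrArg Subtype.val (h _ ⟨⟨k, hK hk⟩, hk, rfl⟩)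
          rwa [hf] at this
      · refine ⟨fun _ _ _ _ => trivial, fun a _ b _ => ?_⟩
        obtain ⟨h, hh, e⟩ := hT.2 a a.2 b b.2
        exact ⟨f ⟨h, hh⟩, trivial, Subtype.ext (by rw [hf]; exact e)⟩
      · rw [hc, e, ← Set.ncard_image_of_injective _ (Subtype.val_injective (p := fun y => y ∈ O'))]
        congr 2
        ext y
        exact ⟨fun h => ⟨⟨y, h.1⟩, h.2, rfl⟩, by rintro ⟨y, hy, rfl⟩; exact ⟨y.2, hy⟩⟩
      · exact fun h => hxF (h (Set.mem_univ (⟨x, hx⟩ : O')))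
    rcases (O ∩ F).eq_empty_or_nonempty with h | ⟨α, hα, hαF⟩
    · rw [h, Set.ncard_empty]; omega
    rcases red ih hP hF hK hT hO hne hα hαF with h | h
    · omega
    · obtain ⟨s1, -, s2, -⟩ := shape hB hK hT hO hne hα hαF h
      exact ⟨by omega, fun e => ⟨by omega, s2 e.symm⟩⟩

end H63.Pnm
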